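import Groth.Agent.Lib.Morse.OrdGE
import Groth.Prelude.Def_QuadSing
import Mathlib.RingTheory.MvPolynomial.Homogeneous
import Mathlib.RingTheory.MvPowerSeries.Derivative
import Mathlib.LinearAlgebra.Matrix.NonsingularInverse

/-!
Normal form of a power series with non-degenerate quadratic part: after a formal change of
coordinates it is its quadratic part plus its constant term.
-/

set_option linter.style.haveILetI false

universe u

open MvPowerSeries Matrix

namespace GrothLib.Morse

variable {R : Type u} [CommRing R] {n : ℕ}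

/-- The part of `f` divided by `X i` which has no variable before `i`. -/
noncomputable def divX (i : Fin n) (f : MvPowerSeries (Fin n) R) : MvPowerSeries (Fin n) R :=
  fun e => if ∀ j, j < i → e j = 0 then coeff (e + Finsupp.single i 1) f else 0

theorem coeff_divX (i : Fin n) (f : MvPowerSeries (Fin n) R) (e : Fin n →₀ ℕ) :
    coeff e (divX i f) = if ∀ j, j < i → e j = 0 then coeff (e + Finsupp.single i 1) f else 0 := rfl

theorem divX_sub (i : Fin n) (f g : MvPowerSeries (Fin n) R) :
    divX i (f - g) = divX i f - divX i g := by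
  ext e
  simp only [coeff_divX, map_sub]
  split <;> simp

theorem OrdGE.divX {t : ℕ} {f : MvPowerSeries (Fin n) R} (hf : OrdGE (t + 1) f) (i : Fin n) :
    OrdGE t (divX i f) := by
  intro e he
  rw [coeff_divX]
  split
  · exact hf _ (by rw [map_add, Finsupp.degree_single]; omega)
  · rfl

theorem sum_X_mul_divX (f : MvPowerSeries (Fin n) R) (hf : constantCoeff f = 0) :
    ∑ i, X i * divX i f = f := by
  classical
  ext e
  have key : ∀ i : Fin n, coeff e (X i * divX i f) =
      if e i ≠ 0 ∧ ∀ j, j < i → e j = 0 then coeff e f else 0 := by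
    intro i
    rw [X_def, coeff_monomial_mul, one_mul]
    by_cases h : e i = 0
    · rw [if_neg (fun hle => by have := hle i; simp [h] at this), if_neg (fun h' => h'.1 h)]
    · have hle : Finsupp.single i 1 ≤ e := by
        intro j
        by_cases hj : j = i
        · subst hj; simp; omega
        · simp [Finsupp.single_eq_of_ne hj]
      rw [if_pos hle, coeff_divX, tsub_add_cancel_of_le hle]
      refine if_congr ?_ rfl rfl
      refine ⟨fun h' => ⟨h, fun j hj => ?_⟩, fun h' j hj => ?_⟩
      · have := h' j hj
        rwa [Finsupp.tsub_apply, Finsupp.single_eq_of_ne (ne_of_lt hj), tsub_zero] at this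
      · rw [Finsupp.tsub_apply, h'.2 j hj, zero_tsub]
  rw [map_sum]
  simp only [key]
  by_cases he : e = 0
  · subst he
    rw [coeff_zero_eq_constantCoeff_apply, hf]
    simp
  · have hs : e.support.Nonempty := Finsupp.support_nonempty_iff.mpr he
    have hi : e (e.support.min' hs) ≠ 0 := Finsupp.mem_support_iff.mp (Finset.min'_mem _ hs)
    have hlt : ∀ j, j < e.support.min' hs → e j = 0 := fun j hj => by
      by_contra hne
      exact absurd (Finset.min'_le _ j (Finsupp.mem_support_iff.mpr hne)) (not_le.mpr hj)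
    rw [Finset.sum_eq_single (e.support.min' hs), if_pos ⟨hi, hlt⟩]
    · intro j _ hj
      refine if_neg fun h' => ?_
      rcases lt_or_gt_of_ne hj with h | h
      · exact h'.1 (hlt j h)
      · exact hi (h'.2 _ h)
    · exact fun h => absurd (Finset.mem_univ _) h

/-- Polarisation of a quadratic form. -/
theorem quadEval_add (a : Fin n → Fin n → R) (u v : Fin n → R) :
    VanCyc.quadEval a (u + v) = VanCyc.quadEval a u + VanCyc.quadEval a v +
      ∑ i, u i * vecMul v (VanCyc.polarMatrix a) i := by
  have hB : ∀ p r : Fin n, VanCyc.polarMatrix a r p =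
      (if p ≤ r then a p r else 0) + (if r ≤ p then a r p else 0) := by
    intro p r
    rcases lt_trichotomy p r with h | h | h
    · simp [VanCyc.polarMatrix, h.ne', h.le, h.not_ge, h.not_gt]
    · subst h; simp [VanCyc.polarMatrix, two_mul]
    · simp [VanCyc.polarMatrix, h.ne, h.le, h.not_ge, h]
  have hsym : ∑ i, u i * vecMul v (VanCyc.polarMatrix a) i =
      (∑ i, ∑ j, if i ≤ j then a i j * u i * v j else 0) +
      ∑ i, ∑ j, if i ≤ j then a i j * v i * u j else 0 := by
    rw [Finset.sum_comm (f := fun i j => if i ≤ j then a i j * v i * u j else 0),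
      ← Finset.sum_add_distrib]
    refine Finset.sum_congr rfl fun i _ => ?_
    rw [vecMul, dotProduct, Finset.mul_sum, ← Finset.sum_add_distrib]
    refine Finset.sum_congr rfl fun j _ => ?_
    rw [hB]
    split_ifs <;> ring
  rw [hsym]
  simp only [VanCyc.quadEval, ← Finset.sum_add_distrib, Pi.add_apply]
  refine Finset.sum_congr rfl fun i _ => Finset.sum_congr rfl fun j _ => ?_
  split_ifs <;> ring

theorem aeval_quadPoly {S : Type*} [CommRing S] [Algebra R S] (a : Fin n → Fin n → R) (v : Fin n → S) :
    MvPolynomial.aeval v (VanCyc.quadPoly a) =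
      ∑ i, ∑ j, if i ≤ j then algebraMap R S (a i j) * v i * v j else 0 := by
  simp only [VanCyc.quadPoly, map_sum]
  refine Finset.sum_congr rfl fun i _ => Finset.sum_congr rfl fun j _ => ?_
  split_ifs <;> simp

theorem polarMatrix_map {S : Type*} [CommRing S] (f : R →+* S) (a : Fin n → Fin n → R) :
    VanCyc.polarMatrix (fun i j => f (a i j)) = (VanCyc.polarMatrix a).map f := by
  ext i j
  simp only [VanCyc.polarMatrix, Matrix.map_apply]
  split_ifs <;> simp [map_ofNat]

theorem quadPoly_isHomogeneous (a : Fin n → Fin n → R) :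
    (VanCyc.quadPoly a).IsHomogeneous 2 := by
  refine MvPolynomial.IsHomogeneous.sum _ _ _ fun i _ => MvPolynomial.IsHomogeneous.sum _ _ _ fun j _ => ?_
  split_ifs
  · exact ((MvPolynomial.isHomogeneous_X R i).C_mul (a i j)).mul (MvPolynomial.isHomogeneous_X R j)
  · exact MvPolynomial.isHomogeneous_zero _ _ _

theorem coeff_coe_quadPoly_of_degree_ne (a : Fin n → Fin n → R) {e : Fin n →₀ ℕ} (he : e.degree ≠ 2) :
    coeff e (VanCyc.quadPoly a : MvPowerSeries (Fin n) R) = 0 := by
  rw [MvPolynomial.coeff_coe]
  exact (quadPoly_isHomogeneous a).coeff_eq_zero he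

theorem single_add_single_inj {i j p r : Fin n} (hij : i ≤ j) (hpr : p ≤ r)
    (h : Finsupp.single i 1 + Finsupp.single j 1 = Finsupp.single p 1 + Finsupp.single r (1 : ℕ)) :
    i = p ∧ j = r := by
  have hi : i = p ∨ i = r := by
    by_contra hc
    push Not at hc
    have := DFunLike.congr_fun h i
    simp [Finsupp.single_eq_of_ne hc.1, Finsupp.single_eq_of_ne hc.2] at this
  rcases hi with rfl | rfl
  · exact ⟨rfl, Finsupp.single_left_injective one_ne_zero (add_left_cancel h)⟩
  · rw [add_comm (Finsupp.single p 1)] at h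
    have : j = p := Finsupp.single_left_injective one_ne_zero (add_left_cancel h)
    subst this
    exact ⟨le_antisymm hij hpr, le_antisymm hpr hij⟩

theorem coeff_coe_quadPoly (a : Fin n → Fin n → R) {p r : Fin n} (hpr : p ≤ r) :
    coeff (Finsupp.single p 1 + Finsupp.single r 1) (VanCyc.quadPoly a : MvPowerSeries (Fin n) R) =
      a p r := by
  classical
  have hterm : ∀ i j : Fin n, MvPolynomial.coeff (Finsupp.single p 1 + Finsupp.single r 1)
      (if i ≤ j then MvPolynomial.C (a i j) * MvPolynomial.X i * MvPolynomial.X j else 0) =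
      if i = p ∧ j = r then a p r else 0 := by
    intro i j
    by_cases hij : i ≤ j
    · rw [if_pos hij, MvPolynomial.C_mul_X_eq_monomial, MvPolynomial.X, MvPolynomial.monomial_mul,
        mul_one, MvPolynomial.coeff_monomial]
      by_cases h : i = p ∧ j = r
      · obtain ⟨rfl, rfl⟩ := h
        simp
      · rw [if_neg h, if_neg fun h' => h (single_add_single_inj hij hpr h')]
    · rw [if_neg hij, MvPolynomial.coeff_zero, if_neg (fun h : i = p ∧ j = r => hij (by rw [h.1, h.2]; exact hpr))]
  rw [MvPolynomial.coeff_coe, VanCyc.quadPoly]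
  simp only [MvPolynomial.coeff_sum, hterm, ite_and]
  simp

theorem eq_single_of_degree_eq_one {e : Fin n →₀ ℕ} (he : e.degree = 1) :
    ∃ i, e = Finsupp.single i 1 := by
  obtain ⟨i, hi⟩ : ∃ i, e i ≠ 0 := by
    by_contra h
    push Not at h
    have : e = 0 := Finsupp.ext h
    simp [this] at he
  have hle : Finsupp.single i 1 ≤ e := by
    intro j
    by_cases hj : j = i
    · subst hj; simp; omega
    · simp [Finsupp.single_eq_of_ne hj]
  obtain ⟨d, rfl⟩ := exists_add_of_le hle
  rw [map_add, Finsupp.degree_single] at he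
  have : d = 0 := (Finsupp.degree_eq_zero_iff d).mp (by omega)
  exact ⟨i, by rw [this, add_zero]⟩

theorem eq_add_of_degree_eq_two {e : Fin n →₀ ℕ} (he : e.degree = 2) :
    ∃ i j, i ≤ j ∧ e = Finsupp.single i 1 + Finsupp.single j 1 := by
  obtain ⟨i, hi⟩ : ∃ i, e i ≠ 0 := by
    by_contra h
    push Not at h
    have : e = 0 := Finsupp.ext h
    simp [this] at he
  have hle : Finsupp.single i 1 ≤ e := by
    intro j
    by_cases hj : j = i
    · subst hj; simp; omega
    · simp [Finsupp.single_eq_of_ne hj]
  obtain ⟨d, rfl⟩ := exists_add_of_le hle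
  rw [map_add, Finsupp.degree_single] at he
  obtain ⟨j, rfl⟩ := eq_single_of_degree_eq_one (e := d) (by omega)
  rcases le_total i j with h | h
  · exact ⟨i, j, h, rfl⟩
  · exact ⟨j, i, h, add_comm _ _⟩

/-- `Q + a` as a power series. -/
noncomputable abbrev normalForm (q : Fin n → Fin n → R) (a : R) : MvPowerSeries (Fin n) R :=
  ((VanCyc.quadPoly q + MvPolynomial.C a : MvPolynomial (Fin n) R) : MvPowerSeries (Fin n) R)

/-- Quadratic normal form: a series agreeing with `Q + a` up to order `m`, `Q` non-degenerate,
is `Q + a` after a change of coordinates which is the identity up to order `m - 1`. -/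
theorem exists_normalise {m : ℕ} (hm : 2 ≤ m) (q : Fin n → Fin n → R) (hq : VanCyc.QuadNondeg q)
    (a : R) (F : MvPowerSeries (Fin n) R)
    (hF : ∀ e : Fin n →₀ ℕ, e.degree ≤ m → coeff e F = coeff e (normalForm q a)) :
    ∃ g h : Fin n → MvPowerSeries (Fin n) R, (∀ i, OrdGE m (g i)) ∧ (∀ i, OrdGE m (h i)) ∧
      subst (fun i => X i + g i) (normalForm q a) = F ∧
      subst (fun i => X i + h i) F = normalForm q a ∧
      Nonempty ((MvPowerSeries (Fin n) R ⧸ Ideal.span {F}) ≃ₐ[R]
        (MvPowerSeries (Fin n) R ⧸ Ideal.span {normalForm q a})) := by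
  classical
  let S := MvPowerSeries (Fin n) R
  let qS : Fin n → Fin n → S := fun i j => algebraMap R S (q i j)
  have haeval : ∀ v : Fin n → S, MvPolynomial.aeval v (VanCyc.quadPoly q) = VanCyc.quadEval qS v :=
    fun v => aeval_quadPoly q v
  let Bi : Matrix (Fin n) (Fin n) S := ((VanCyc.polarMatrix q)⁻¹).map (algebraMap R S)
  have hBi : Bi * VanCyc.polarMatrix qS = 1 := by
    rw [polarMatrix_map, ← Matrix.map_mul, Matrix.nonsing_inv_mul _ hq,
      Matrix.map_one _ (map_zero _) (map_one _)]
  let W : S := F - normalForm q a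
  have hW : OrdGE (m + 1) W := fun e he => by
    rw [map_sub, hF e (Nat.lt_succ_iff.mp he), sub_self]
  have hQ : ∀ v : Fin n → S, (∀ i, OrdGE m (v i)) → OrdGE (m + 1) (VanCyc.quadEval qS v) := by
    intro v hv
    refine OrdGE.sum fun i _ => OrdGE.sum fun j _ => ?_
    split_ifs
    · exact (((hv i).mul_left _).mul (hv j)).mono (by omega)
    · exact ordGE_of_zero _
  have hQc : ∀ v v' : Fin n → S, (∀ i, OrdGE m (v i)) → (∀ i, OrdGE m (v' i)) → ∀ t,
      (∀ i, OrdGE t (v i - v' i)) → OrdGE (t + 2) (VanCyc.quadEval qS v - VanCyc.quadEval qS v') := by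
    intro v v' hv hv' t ht
    simp only [VanCyc.quadEval]
    rw [← Finset.sum_sub_distrib]
    refine OrdGE.sum fun i _ => ?_
    rw [← Finset.sum_sub_distrib]
    refine OrdGE.sum fun j _ => ?_
    split_ifs
    · have e : qS i j * v i * v j - qS i j * v' i * v' j =
          qS i j * ((v i - v' i) * v j + v' i * (v j - v' j)) := by ring
      rw [e]
      exact ((((ht i).mul (hv j)).mono (by omega)).add
        (((hv' i).mul (ht j)).mono (by omega))).mul_left _
    · rw [sub_self]; exact ordGE_of_zero _
  let Φ : (Fin n → S) → Fin n → S := fun v j =>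
    ∑ i, divX i (W - VanCyc.quadEval qS v) * Bi i j
  obtain ⟨g, hg, hfix⟩ := exists_fixed m Φ
    (fun v hv j => OrdGE.sum fun i _ => ((hW.sub (hQ v hv)).divX i).mul_right _)
    (fun v v' hv hv' t ht j => by
      simp only [Φ, ← Finset.sum_sub_distrib, ← sub_mul, ← divX_sub]
      refine OrdGE.sum fun i _ => (OrdGE.divX ?_ i).mul_right _
      have e : W - VanCyc.quadEval qS v - (W - VanCyc.quadEval qS v') =
          -(VanCyc.quadEval qS v - VanCyc.quadEval qS v') := by ring
      rw [e]
      exact (hQc v v' hv hv' t ht).neg)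
  have hgB : vecMul g (VanCyc.polarMatrix qS) = fun i => divX i (W - VanCyc.quadEval qS g) := by
    have h1 : g = vecMul (fun i => divX i (W - VanCyc.quadEval qS g)) Bi := hfix.symm
    conv_lhs => rw [h1]
    rw [vecMul_vecMul, hBi, vecMul_one]
  have hs : HasSubst (fun i => X i + g i) := hasSubst_shift fun i => (hg i).mono (by omega)
  have hT : subst (fun i => X i + g i) (normalForm q a) = F := by
    rw [subst_coe, map_add, MvPolynomial.aeval_C, haeval]
    have h1 : (fun i : Fin n => (X i : S) + g i) = (X : Fin n → S) + g := rfl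
    have h2 : VanCyc.quadEval qS (X : Fin n → S) = (VanCyc.quadPoly q : S) := by
      rw [← haeval, ← subst_coe (R := R), subst_self, id_eq]
    have h3 : constantCoeff (W - VanCyc.quadEval qS g) = 0 := by
      rw [← coeff_zero_eq_constantCoeff_apply]
      exact (hW.sub (hQ g hg)) 0 (by simp)
    rw [h1, quadEval_add, hgB, sum_X_mul_divX _ h3, h2]
    have h4 : normalForm q a = (VanCyc.quadPoly q : S) + algebraMap R S a := by
      rw [normalForm, MvPolynomial.coe_add, MvPolynomial.coe_C]; rfl
    simp only [W, h4]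
    ring
  obtain ⟨φ, hφ, hrefl⟩ := exists_shift_equiv fun i => (hg i).mono hm
  let h : Fin n → S := fun i => φ.symm (X i) - X i
  have hh : ∀ i, OrdGE m (h i) := fun i => hrefl (by
    have e : φ (h i) = -(g i) := by
      simp only [h, map_sub, AlgEquiv.apply_symm_apply]
      rw [hφ, subst_X hs]; ring
    rw [e]; exact (hg i).neg)
  have hs' : HasSubst (fun i => X i + h i) := hasSubst_shift fun i => (hh i).mono (by omega)
  have hinv : ∀ f, φ.symm f = subst (fun i => X i + h i) f := fun f => by
    rw [AlgEquiv.symm_apply_eq, hφ, subst_comp_subst_apply hs' hs]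
    have e : (fun s => subst (fun i => X i + g i) (X s + h s)) = (X : Fin n → S) := funext fun s => by
      have : X s + h s = φ.symm (X s) := add_sub_cancel _ _
      rw [this, ← hφ, AlgEquiv.apply_symm_apply]
    rw [e, subst_self, id_eq]
  have hinvF : φ.symm F = normalForm q a := by
    rw [AlgEquiv.symm_apply_eq, hφ, hT]
  refine ⟨g, h, hg, hh, hT, by rw [← hinv, hinvF], ⟨Ideal.quotientEquivAlg _ _ φ.symm ?_⟩⟩
  rw [Ideal.map_span, Set.image_singleton]
  exact congrArg (fun x => Ideal.span {x}) hinvF.symm

end GrothLib.Morse
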