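import Groth.Agent.Lib.Morse.OrdGE
import Mathlib.RingTheory.PowerSeries.Expand
import Mathlib.RingTheory.MvPowerSeries.Expand
import Mathlib.RingTheory.PowerSeries.Substitution
import Mathlib.RingTheory.PowerSeries.Inverse
import Mathlib.FieldTheory.Finite.Basic

/-!
Cube roots of `1 + x` in characteristic two, and automorphisms `X_i ↦ a_i X_i + g_i`.
-/

universe u

open MvPowerSeries

namespace GrothLib.Morse

/-- coefficients of `∏ (1 + t ^ (4 ^ n))` over `ZMod 2` -/
def digitCoeff (n : ℕ) : ZMod 2 :=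
  if h : n = 0 then 1 else if n % 4 ≤ 1 then digitCoeff (n / 4) else 0
  termination_by n
  decreasing_by omega

theorem digitCoeff_zero : digitCoeff 0 = 1 := by rw [digitCoeff]; simp

theorem digitCoeff_eq {n : ℕ} (h : n ≠ 0) :
    digitCoeff n = if n % 4 ≤ 1 then digitCoeff (n / 4) else 0 := by
  conv_lhs => rw [digitCoeff]
  simp [h]

theorem map_iterFrob_zmod (p : PowerSeries (ZMod 2)) :
    PowerSeries.expand 4 (by norm_num) p = p ^ 4 := by
  have h : MvPowerSeries.map (iterateFrobenius (ZMod 2) 2 2)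
      (MvPowerSeries.expand (2 ^ 2) (by norm_num) p) = p ^ (2 ^ 2) :=
    MvPowerSeries.map_iterateFrobenius_expand 2 (by norm_num) p 2
  have h2 : iterateFrobenius (ZMod 2) 2 2 = RingHom.id _ := Subsingleton.elim _ _
  rw [h2, MvPowerSeries.map_id] at h
  exact h

/-- a series `Q` over `ZMod 2` with `Q ^ 3 = 1 + t` -/
theorem exists_cubeRoot_zmod : ∃ Q : PowerSeries (ZMod 2),
    Q ^ 3 = 1 + PowerSeries.X ∧ PowerSeries.constantCoeff Q = 1 := by
  let P : PowerSeries (ZMod 2) := PowerSeries.mk digitCoeff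
  have hP : P = (1 + PowerSeries.X) * PowerSeries.expand 4 (by norm_num) P := by
    ext n
    rw [add_mul, one_mul, map_add]
    rcases n with _ | m
    · simp [P, digitCoeff_zero, PowerSeries.coeff_expand]
    · rw [PowerSeries.coeff_succ_X_mul, PowerSeries.coeff_expand, PowerSeries.coeff_expand]
      simp only [P, PowerSeries.coeff_mk]
      rw [digitCoeff_eq (Nat.succ_ne_zero m)]
      by_cases h1 : 4 ∣ m + 1
      · rw [if_pos h1, if_pos (by omega), if_neg (by omega), add_zero]
      · by_cases h2 : 4 ∣ m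
        · rw [if_neg h1, if_pos h2, if_pos (by omega), zero_add]
          congr 1
          omega
        · rw [if_neg h1, if_neg h2, if_neg (by omega), add_zero]
  rw [map_iterFrob_zmod] at hP
  have hP0 : PowerSeries.constantCoeff P = 1 := by
    rw [← PowerSeries.coeff_zero_eq_constantCoeff_apply]
    simp [P, digitCoeff_zero]
  have hne : P ≠ 0 := fun h => by simp [h] at hP0
  have h3 : (1 + PowerSeries.X) * P ^ 3 = 1 := by
    refine mul_right_cancel₀ hne ?_
    rw [one_mul]
    conv_rhs => rw [hP]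
    ring
  refine ⟨P ^ 2 * (1 + PowerSeries.X), ?_, by simp [hP0]⟩
  calc (P ^ 2 * (1 + PowerSeries.X)) ^ 3
      = ((1 + PowerSeries.X) * P ^ 3) ^ 2 * (1 + PowerSeries.X) := by ring
    _ = 1 + PowerSeries.X := by rw [h3]; ring

variable {σ : Type} {R : Type u} [CommRing R]

/-- cube roots of `1 + x` in characteristic two -/
theorem exists_cubeRoot [CharP R 2] (x : MvPowerSeries σ R) (hx : constantCoeff x = 0) :
    ∃ q : MvPowerSeries σ R, q ^ 3 = 1 + x ∧ constantCoeff q = 1 := by
  obtain ⟨Q, hQ, hQ0⟩ := exists_cubeRoot_zmod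
  let f : ZMod 2 →+* R := ZMod.castHom (dvd_refl 2) R
  have hs : PowerSeries.HasSubst x := PowerSeries.HasSubst.of_constantCoeff_zero hx
  let φ : PowerSeries R →ₐ[R] MvPowerSeries σ R := PowerSeries.substAlgHom (S := R) hs
  refine ⟨φ (PowerSeries.map f Q), ?_, ?_⟩
  · rw [← map_pow, ← map_pow, hQ, map_add, map_one, PowerSeries.map_X, map_add, map_one]
    simp only [φ, PowerSeries.substAlgHom_X]
  · have h0 : PowerSeries.constantCoeff (PowerSeries.map f Q - 1) = 0 := by
      rw [map_sub, ← PowerSeries.coeff_zero_eq_constantCoeff_apply, PowerSeries.coeff_map,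
        PowerSeries.coeff_zero_eq_constantCoeff_apply, hQ0, map_one, map_one, sub_self]
    obtain ⟨g, hg⟩ := PowerSeries.X_dvd_iff.2 h0
    have : φ (PowerSeries.map f Q) - 1 = x * φ g := by
      rw [← map_one φ, ← map_sub, hg, map_mul]
      simp only [φ, PowerSeries.substAlgHom_X]
    rw [sub_eq_iff_eq_add] at this
    simp [this, hx]

/-- the automorphism `X_i ↦ a_i X_i + g_i` with unit `a_i` and `g_i` of order at least two -/
theorem exists_affine_shift_equiv [Finite σ] {a : σ → R} (ha : ∀ i, IsUnit (a i))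
    {g : σ → MvPowerSeries σ R} (hg : ∀ i, OrdGE 2 (g i)) :
    ∃ φ : MvPowerSeries σ R ≃ₐ[R] MvPowerSeries σ R, ∀ i, φ (X i) = C (a i) * X i + g i := by
  choose b hb using fun i => (ha i).exists_left_inv
  have hs : ∀ c : σ → R, ∀ i, rescaleAlgHom c (X i) = C (c i) * X i := fun c i => by
    simp only [rescaleAlgHom, substAlgHom_X, Pi.smul_apply', smul_eq_C_mul]
  let S : MvPowerSeries σ R ≃ₐ[R] MvPowerSeries σ R :=
    AlgEquiv.ofAlgHom (rescaleAlgHom a) (rescaleAlgHom b)
      (AlgHom.ext fun f => by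
        rw [AlgHom.comp_apply, rescaleAlgHom_apply, rescaleAlgHom_apply, rescale_rescale,
          show b * a = 1 from funext hb, rescale_one]
        rfl)
      (AlgHom.ext fun f => by
        rw [AlgHom.comp_apply, rescaleAlgHom_apply, rescaleAlgHom_apply, rescale_rescale, mul_comm,
          show b * a = 1 from funext hb, rescale_one]
        rfl)
  have hg' : ∀ i, OrdGE 2 (C (b i) * g i) := fun i => (hg i).mul_left _
  obtain ⟨T, hT, -⟩ := exists_shift_equiv hg'
  refine ⟨S.trans T, fun i => ?_⟩
  rw [AlgEquiv.trans_apply, show S (X i) = C (a i) * X i from hs a i, map_mul,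
    show T (C (a i)) = C (a i) from T.commutes (a i), hT, subst_X (hasSubst_shift fun j => (hg' j).mono one_le_two),
    mul_add, ← mul_assoc, ← map_mul, mul_comm (a i), hb, map_one, one_mul]

end GrothLib.Morse
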