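import Mathlib.RingTheory.MvPowerSeries.Substitution
import Mathlib.RingTheory.MvPowerSeries.Order
import Mathlib.Algebra.BigOperators.Finsupp.Basic
import Mathlib.LinearAlgebra.Finsupp.Defs
import Mathlib.Tactic.LinearCombination
import Mathlib.Tactic.Abel

/-!
Vanishing order of multivariate power series, contraction fixed points, and automorphisms of the
form `X_i ↦ X_i + g_i` with `g` of order at least two.
-/

set_option linter.style.haveILetI false

universe u

open MvPowerSeries

namespace GrothLib.Morse

variable {σ : Type} {R : Type u} [CommRing R]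

/-- All coefficients of degree `< n` vanish. -/
def OrdGE (n : ℕ) (f : MvPowerSeries σ R) : Prop := ∀ e : σ →₀ ℕ, e.degree < n → coeff e f = 0

theorem OrdGE.mono {n m : ℕ} {f : MvPowerSeries σ R} (h : OrdGE n f) (hm : m ≤ n) : OrdGE m f :=
  fun e he => h e (lt_of_lt_of_le he hm)

theorem ordGE_zero (f : MvPowerSeries σ R) : OrdGE 0 f := fun e he => absurd he (Nat.not_lt_zero _)

theorem ordGE_of_zero (n : ℕ) : OrdGE n (0 : MvPowerSeries σ R) := fun e _ => map_zero _

theorem OrdGE.add {n : ℕ} {f g : MvPowerSeries σ R} (hf : OrdGE n f) (hg : OrdGE n g) : OrdGE n (f + g) :=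
  fun e he => by rw [map_add, hf e he, hg e he, add_zero]

theorem OrdGE.neg {n : ℕ} {f : MvPowerSeries σ R} (hf : OrdGE n f) : OrdGE n (-f) :=
  fun e he => by rw [map_neg, hf e he, neg_zero]

theorem OrdGE.sub {n : ℕ} {f g : MvPowerSeries σ R} (hf : OrdGE n f) (hg : OrdGE n g) : OrdGE n (f - g) := by
  rw [sub_eq_add_neg]; exact hf.add hg.neg

theorem OrdGE.sum {ι : Type*} {s : Finset ι} {n : ℕ} {f : ι → MvPowerSeries σ R}
    (h : ∀ i ∈ s, OrdGE n (f i)) : OrdGE n (∑ i ∈ s, f i) :=
  fun e he => by rw [map_sum]; exact Finset.sum_eq_zero fun i hi => h i hi e he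

theorem OrdGE.mul {a b : ℕ} {f g : MvPowerSeries σ R} (hf : OrdGE a f) (hg : OrdGE b g) :
    OrdGE (a + b) (f * g) := by
  classical
  intro e he
  rw [coeff_mul]
  refine Finset.sum_eq_zero fun p hp => ?_
  have hsum : p.1.degree + p.2.degree = e.degree := by
    rw [← map_add, Finset.HasAntidiagonal.mem_antidiagonal.mp hp]
  rcases Nat.lt_or_ge p.1.degree a with h | h
  · rw [hf _ h, zero_mul]
  · rw [hg _ (by omega), mul_zero]

theorem OrdGE.mul_left {b : ℕ} (f : MvPowerSeries σ R) {g : MvPowerSeries σ R} (hg : OrdGE b g) :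
    OrdGE b (f * g) := by simpa using (ordGE_zero f).mul hg

theorem OrdGE.mul_right {b : ℕ} {f : MvPowerSeries σ R} (hf : OrdGE b f) (g : MvPowerSeries σ R) :
    OrdGE b (f * g) := by simpa using hf.mul (ordGE_zero g)

theorem eq_zero_of_forall {f : MvPowerSeries σ R} (h : ∀ n, OrdGE n f) : f = 0 := by
  ext e; rw [map_zero]; exact h (e.degree + 1) e (Nat.lt_succ_self _)

theorem eq_of_forall {f g : MvPowerSeries σ R} (h : ∀ n, OrdGE n (f - g)) : f = g :=
  sub_eq_zero.mp (eq_zero_of_forall h)

theorem ordGE_X (i : σ) : OrdGE 1 (X i : MvPowerSeries σ R) := by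
  classical
  intro e he
  rw [coeff_X, if_neg]
  rintro rfl
  simp [Finsupp.degree_single] at he

theorem ordGE_monomial (α : σ →₀ ℕ) (r : R) : OrdGE α.degree (monomial α r : MvPowerSeries σ R) := by
  classical
  intro e he
  rw [coeff_monomial, if_neg]
  rintro rfl
  exact lt_irrefl _ he

/-- Fixed point of a contraction on tuples of series of order at least `m`. -/
theorem exists_fixed {ι : Type*} (m : ℕ) (Φ : (ι → MvPowerSeries σ R) → ι → MvPowerSeries σ R)
    (hm : ∀ g, (∀ i, OrdGE m (g i)) → ∀ i, OrdGE m (Φ g i))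
    (hc : ∀ g g', (∀ i, OrdGE m (g i)) → (∀ i, OrdGE m (g' i)) → ∀ t,
      (∀ i, OrdGE t (g i - g' i)) → ∀ i, OrdGE (t + 1) (Φ g i - Φ g' i)) :
    ∃ g, (∀ i, OrdGE m (g i)) ∧ Φ g = g := by
  let a : ℕ → ι → MvPowerSeries σ R := fun k => Φ^[k] 0
  have ha : ∀ k, a (k + 1) = Φ (a k) := fun k => Function.iterate_succ_apply' Φ k 0
  have hi : ∀ k i, OrdGE m (a k i) := by
    intro k
    induction k with
    | zero => exact fun i => ordGE_of_zero m
    | succ k ih => rw [ha]; exact hm _ ih
  have hstep : ∀ k i, OrdGE k (a (k + 1) i - a k i) := by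
    intro k
    induction k with
    | zero => exact fun i => ordGE_zero _
    | succ k ih => intro i; rw [ha (k + 1)]; nth_rw 2 [ha k]; exact hc _ _ (hi _) (hi _) k ih i
  have hcauchy : ∀ k j, k ≤ j → ∀ i, OrdGE k (a j i - a k i) := by
    intro k j hkj i
    induction j, hkj using Nat.le_induction with
    | base => rw [sub_self]; exact ordGE_of_zero _
    | succ j hj ih =>
      have : a (j + 1) i - a k i = (a (j + 1) i - a j i) + (a j i - a k i) := by ring
      rw [this]
      exact ((hstep j i).mono hj).add ih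
  let g : ι → MvPowerSeries σ R := fun i e => coeff e (a (e.degree + 1) i)
  have hg : ∀ i e, coeff e (g i) = coeff e (a (e.degree + 1) i) := fun i e => rfl
  have hgk : ∀ k i, OrdGE k (g i - a k i) := fun k i e he => by
    have h := hcauchy (e.degree + 1) k he i e (Nat.lt_succ_self _)
    rw [map_sub] at h
    rw [map_sub, hg, sub_eq_zero]
    exact (sub_eq_zero.mp h).symm
  have hgm : ∀ i, OrdGE m (g i) := fun i e he => by rw [hg]; exact hi _ i e he
  refine ⟨g, hgm, funext fun i => eq_of_forall fun k => ?_⟩
  have h1 := (hc g (a k) hgm (hi k) k (hgk k) i).mono (Nat.le_succ k)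
  have h2 := (hgk (k + 1) i).mono (Nat.le_succ k)
  have e : Φ g i - g i = (Φ g i - Φ (a k) i) - (g i - a (k + 1) i) := by rw [ha]; ring
  rw [e]
  exact h1.sub h2

/-- An additive map raising the order of `φ f - f` is bijective. -/
theorem bijective_of_raises (φ : MvPowerSeries σ R →+ MvPowerSeries σ R)
    (h : ∀ d f, OrdGE d f → OrdGE (d + 1) (φ f - f)) : Function.Bijective φ := by
  refine ⟨(injective_iff_map_eq_zero φ).mpr fun f hf => eq_zero_of_forall fun n => ?_, fun y => ?_⟩
  · induction n with
    | zero => exact ordGE_zero _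
    | succ n ih =>
      have := h n f ih
      rw [hf, zero_sub] at this
      simpa using this.neg
  · obtain ⟨g, -, hg⟩ := exists_fixed (ι := Unit) 0 (fun g _ => y - (φ (g ()) - g ()))
      (fun _ _ _ => ordGE_zero _) (fun g g' _ _ t ht i => by
        have h2 := (h t (g () - g' ()) (ht ())).neg
        rw [map_sub] at h2
        have e : y - (φ (g ()) - g ()) - (y - (φ (g' ()) - g' ())) = -(φ (g ()) - φ (g' ()) - (g () - g' ())) := by
          ring
        rw [e]
        exact h2)
    refine ⟨g (), ?_⟩
    have hh := congrFun hg ()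
    linear_combination -hh

section Subst

variable [Finite σ]

/-- The substitution `X_i ↦ X_i + g_i` is allowed. -/
theorem hasSubst_shift {g : σ → MvPowerSeries σ R} (hg : ∀ i, OrdGE 1 (g i)) :
    HasSubst (fun i => X i + g i) := by
  refine hasSubst_of_constantCoeff_zero fun i => ?_
  rw [map_add, constantCoeff_X, zero_add, ← coeff_zero_eq_constantCoeff_apply]
  exact hg i 0 (by simp)

theorem prod_shift_sub {g : σ → MvPowerSeries σ R} (hg : ∀ i, OrdGE 2 (g i)) (d : σ →₀ ℕ) :
    OrdGE (d.degree + 1) (d.prod (fun i k => (X i + g i) ^ k) - monomial d 1) := by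
  have mul : ∀ {α β : σ →₀ ℕ} {P Q : MvPowerSeries σ R}, OrdGE (α.degree + 1) (P - monomial α 1) →
      OrdGE (β.degree + 1) (Q - monomial β 1) →
      OrdGE ((α + β).degree + 1) (P * Q - monomial (α + β) 1) := by
    intro α β P Q hP hQ
    have hQ' : OrdGE β.degree Q := by
      have := (hQ.mono (Nat.le_succ _)).add (ordGE_monomial β (1 : R))
      simpa using this
    have e : P * Q - monomial (α + β) 1 = (P - monomial α 1) * Q + monomial α 1 * (Q - monomial β 1) := by
      have hm : monomial α (1 : R) * monomial β 1 = monomial (α + β) 1 := by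
        rw [monomial_mul_monomial, mul_one]
      linear_combination hm
    rw [e, map_add]
    exact ((hP.mul hQ').mono (by omega)).add (((ordGE_monomial α (1 : R)).mul hQ).mono (by omega))
  have pow : ∀ (i : σ) (k : ℕ),
      OrdGE ((Finsupp.single i k).degree + 1) ((X i + g i) ^ k - monomial (Finsupp.single i k) 1) := by
    intro i k
    induction k with
    | zero =>
      rw [pow_zero, Finsupp.single_zero, monomial_zero_one, sub_self]
      exact ordGE_of_zero _
    | succ k ih =>
      rw [pow_succ, Finsupp.single_add]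
      refine mul ih ?_
      rw [Finsupp.degree_single, ← X_def, add_sub_cancel_left]
      exact hg i
  induction d using Finsupp.induction with
  | zero =>
    rw [Finsupp.prod_zero_index, monomial_zero_one, sub_self]
    exact ordGE_of_zero _
  | single_add i k d hid hk ih =>
    rw [Finsupp.prod_add_index' (fun _ => pow_zero _) (fun _ _ _ => pow_add _ _ _),
      Finsupp.prod_single_index (by simp)]
    exact mul (pow i k) ih

theorem shift_raises {g : σ → MvPowerSeries σ R} (hg : ∀ i, OrdGE 2 (g i)) {d : ℕ}
    {f : MvPowerSeries σ R} (hf : OrdGE d f) : OrdGE (d + 1) (subst (fun i => X i + g i) f - f) := by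
  classical
  intro e he
  rw [map_sub, coeff_subst (hasSubst_shift fun i => (hg i).mono one_le_two), sub_eq_zero]
  rw [finsum_eq_single _ e]
  · have := prod_shift_sub hg e e (Nat.lt_succ_self _)
    rw [map_sub, coeff_monomial_same, sub_eq_zero] at this
    rw [this, smul_eq_mul, mul_one]
  · intro c hce
    rcases Nat.lt_or_ge c.degree d with h | h
    · rw [hf c h, zero_smul]
    · have := prod_shift_sub hg c e (by omega)
      rw [map_sub, coeff_monomial, if_neg (Ne.symm hce), sub_zero] at this
      rw [this, smul_zero]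

/-- The automorphism `X_i ↦ X_i + g_i`. -/
theorem exists_shift_equiv {g : σ → MvPowerSeries σ R} (hg : ∀ i, OrdGE 2 (g i)) :
    ∃ φ : MvPowerSeries σ R ≃ₐ[R] MvPowerSeries σ R,
      (∀ f, φ f = subst (fun i => X i + g i) f) ∧
      ∀ {m : ℕ} {f : MvPowerSeries σ R}, OrdGE m (φ f) → OrdGE m f := by
  have hs := hasSubst_shift fun i => (hg i).mono one_le_two
  have hb : Function.Bijective (substAlgHom (R := R) hs) :=
    bijective_of_raises (substAlgHom (R := R) hs).toRingHom.toAddMonoidHom fun d f hf => by
      show OrdGE (d + 1) (substAlgHom (R := R) hs f - f)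
      rw [substAlgHom_apply hs]
      exact shift_raises hg hf
  refine ⟨AlgEquiv.ofBijective _ hb, fun f => substAlgHom_apply hs f, fun {m f} h => ?_⟩
  have h' : OrdGE m (subst (fun i => X i + g i) f) := by rwa [← substAlgHom_apply hs f]
  suffices ∀ k, k ≤ m → OrdGE k f from this m le_rfl
  intro k
  induction k with
  | zero => exact fun _ => ordGE_zero _
  | succ k ih =>
    intro hk
    have h1 := shift_raises hg (ih (Nat.le_of_succ_le hk))
    have h2 := (h'.mono hk).sub h1
    simpa using h2

end Subst

end GrothLib.Morse
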