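import Groth.Agent.Lib.Morse.Morse
import Mathlib.RingTheory.AdicCompletion.Basic

/-!
Translations `X ↦ X + c` (`c` in the ideal of definition) of power series over a complete ring, and
the critical point of a series with non-degenerate quadratic part.
-/

set_option linter.style.haveILetI false

universe u

open MvPowerSeries Matrix

namespace GrothLib.Morse

variable {A : Type u} [CommRing A] {n : ℕ} {I : Ideal A} [IsAdicComplete I A]

theorem eq_of_forall_mk {a b : A} (h : ∀ k, Ideal.Quotient.mk (I ^ k) a = Ideal.Quotient.mk (I ^ k) b) :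
    a = b := by
  rw [← sub_eq_zero]
  refine IsHausdorff.haus' (I := I) _ fun k => ?_
  rw [SModEq.sub_mem, smul_eq_mul, Ideal.mul_top, sub_zero, ← Ideal.Quotient.eq]
  exact h k

theorem eq_zero_of_forall_mem {a : A} (h : ∀ k, a ∈ I ^ k) : a = 0 :=
  eq_of_forall_mk fun k => by rw [map_zero, Ideal.Quotient.eq_zero_iff_mem]; exact h k

theorem exists_of_compatible (x : ∀ k, A ⧸ I ^ k)
    (h : ∀ k l (hkl : k ≤ l), Ideal.Quotient.factor (Ideal.pow_le_pow_right hkl) (x l) = x k) :
    ∃ a : A, ∀ k, Ideal.Quotient.mk (I ^ k) a = x k := by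
  choose r hr using fun k => Ideal.Quotient.mk_surjective (x k)
  obtain ⟨L, hL⟩ := IsPrecomplete.prec' (I := I) r fun {k l} hkl => by
    rw [SModEq.sub_mem, smul_eq_mul, Ideal.mul_top, ← Ideal.Quotient.eq, hr k, ← h k l hkl, ← hr l,
      Ideal.Quotient.factor_mk]
  refine ⟨L, fun k => ?_⟩
  have := hL k
  rw [SModEq.sub_mem, smul_eq_mul, Ideal.mul_top, ← Ideal.Quotient.eq, hr] at this
  exact this.symm

/-- Reduction of coefficients modulo `I ^ k`. -/
noncomputable abbrev redP (k : ℕ) : MvPowerSeries (Fin n) A →+* MvPowerSeries (Fin n) (A ⧸ I ^ k) :=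
  MvPowerSeries.map (Ideal.Quotient.mk (I ^ k))

theorem ext_of_forall_redP {f g : MvPowerSeries (Fin n) A} (h : ∀ k, redP (I := I) k f = redP k g) :
    f = g := by
  ext e
  refine eq_of_forall_mk (I := I) fun k => ?_
  rw [← coeff_map, ← coeff_map, h k]

theorem hasSubst_translate {c : Fin n → A} (hc : ∀ i, c i ∈ I) (k : ℕ) :
    HasSubst (fun i => (X i : MvPowerSeries (Fin n) (A ⧸ I ^ k)) + C (Ideal.Quotient.mk (I ^ k) (c i))) := by
  refine hasSubst_of_constantCoeff_nilpotent fun i => ⟨k, ?_⟩
  rw [map_add, constantCoeff_X, zero_add, constantCoeff_C, ← map_pow, Ideal.Quotient.eq_zero_iff_mem]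
  exact Ideal.pow_mem_pow (hc i) k

/-- The reduction modulo `I ^ k` of the translation by `c`. -/
noncomputable def translateMod {c : Fin n → A} (hc : ∀ i, c i ∈ I) (k : ℕ) :
    MvPowerSeries (Fin n) A →+* MvPowerSeries (Fin n) (A ⧸ I ^ k) :=
  (substAlgHom (R := A ⧸ I ^ k) (hasSubst_translate hc k)).toRingHom.comp (redP k)

theorem translateMod_apply {c : Fin n → A} (hc : ∀ i, c i ∈ I) (k : ℕ) (f : MvPowerSeries (Fin n) A) :
    translateMod hc k f =
      subst (fun i => X i + C (Ideal.Quotient.mk (I ^ k) (c i))) (redP (I := I) k f) :=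
  substAlgHom_apply (hasSubst_translate hc k) _

theorem exists_translate {c : Fin n → A} (hc : ∀ i, c i ∈ I) :
    ∃ T : MvPowerSeries (Fin n) A →+* MvPowerSeries (Fin n) A,
      ∀ k f, redP (I := I) k (T f) = translateMod hc k f := by
  have hcomp : ∀ (k l : ℕ) (hkl : k ≤ l) f, MvPowerSeries.map
      (Ideal.Quotient.factor (Ideal.pow_le_pow_right hkl)) (translateMod hc l f) = translateMod hc k f := by
    intro k l hkl f
    rw [translateMod_apply, translateMod_apply, map_subst (hasSubst_translate hc l)]
    congr 1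
    · funext i
      rw [map_add, map_X, map_C, Ideal.Quotient.factor_mk]
  choose T hT using fun (f : MvPowerSeries (Fin n) A) (e : Fin n →₀ ℕ) =>
    exists_of_compatible (I := I) (fun k => coeff e (translateMod hc k f))
      (fun k l hkl => by rw [← coeff_map, hcomp k l hkl f])
  let T' : MvPowerSeries (Fin n) A → MvPowerSeries (Fin n) A := fun f e => T f e
  have hT' : ∀ k f, redP (I := I) k (T' f) = translateMod hc k f := fun k f => by
    ext e; exact (coeff_map _ _ _).trans (hT f e k)
  exact ⟨{ toFun := T'
           map_one' := ext_of_forall_redP fun k => by rw [hT', map_one, map_one]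
           map_mul' := fun f g => ext_of_forall_redP fun k => by
             rw [map_mul (redP (I := I) k), hT', hT', hT', map_mul]
           map_zero' := ext_of_forall_redP fun k => by rw [hT', map_zero, map_zero]
           map_add' := fun f g => ext_of_forall_redP fun k => by
             rw [map_add (redP (I := I) k), hT', hT', hT', map_add] }, hT'⟩

/-- The translation `X ↦ X + c`. -/
noncomputable def translate {c : Fin n → A} (hc : ∀ i, c i ∈ I) :
    MvPowerSeries (Fin n) A →+* MvPowerSeries (Fin n) A := (exists_translate hc).choose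

theorem redP_translate {c : Fin n → A} (hc : ∀ i, c i ∈ I) (k : ℕ) (f : MvPowerSeries (Fin n) A) :
    redP (I := I) k (translate hc f) =
      subst (fun i => X i + C (Ideal.Quotient.mk (I ^ k) (c i))) (redP (I := I) k f) := by
  rw [← translateMod_apply hc, translate, (exists_translate hc).choose_spec]

theorem translate_C {c : Fin n → A} (hc : ∀ i, c i ∈ I) (a : A) : translate hc (C a) = C a :=
  ext_of_forall_redP fun k => by rw [redP_translate hc, redP, map_C, subst_C]

theorem translate_X {c : Fin n → A} (hc : ∀ i, c i ∈ I) (i : Fin n) :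
    translate hc (X i) = X i + C (c i) :=
  ext_of_forall_redP fun k => by
    rw [redP_translate hc, redP, map_X, subst_X (hasSubst_translate hc k), map_add, map_X, map_C]

theorem translate_translate {c d : Fin n → A} (hc : ∀ i, c i ∈ I) (hd : ∀ i, d i ∈ I)
    (hcd : ∀ i, (c + d) i ∈ I) (f : MvPowerSeries (Fin n) A) :
    translate hd (translate hc f) = translate hcd f :=
  ext_of_forall_redP fun k => by
    rw [redP_translate hd, redP_translate hc, redP_translate hcd,
      subst_comp_subst_apply (hasSubst_translate hc k) (hasSubst_translate hd k)]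
    congr 1
    funext i
    rw [subst_add (hasSubst_translate hd k), subst_X (hasSubst_translate hd k), subst_C, add_assoc,
      ← map_add C, ← map_add (Ideal.Quotient.mk (I ^ k)), Pi.add_apply, add_comm (d i)]

theorem translate_zero (h : ∀ i, (0 : Fin n → A) i ∈ I) (f : MvPowerSeries (Fin n) A) :
    translate h f = f :=
  ext_of_forall_redP fun k => by
    rw [redP_translate h]
    simp only [Pi.zero_apply, map_zero, add_zero]
    rw [subst_self, id_eq]

theorem translate_congr {c d : Fin n → A} (h : c = d) (hc : ∀ i, c i ∈ I) (hd : ∀ i, d i ∈ I)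
    (f : MvPowerSeries (Fin n) A) : translate hc f = translate hd f := by subst h; rfl

/-- The translation as an algebra automorphism. -/
noncomputable def translateEquiv {c : Fin n → A} (hc : ∀ i, c i ∈ I) :
    MvPowerSeries (Fin n) A ≃ₐ[A] MvPowerSeries (Fin n) A :=
  AlgEquiv.ofBijective { translate hc with commutes' := fun a => translate_C hc a }
    (Function.bijective_iff_has_inverse.mpr
      ⟨translate (c := -c) (fun i => I.neg_mem (hc i)), fun f => by
        show translate _ (translate hc f) = f
        rw [translate_translate hc _ (fun i => by simp), translate_congr (add_neg_cancel c) _ (fun i => I.zero_mem),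
          translate_zero], fun f => by
        show translate hc (translate _ f) = f
        rw [translate_translate _ hc (fun i => by simp), translate_congr (neg_add_cancel c) _ (fun i => I.zero_mem),
          translate_zero]⟩)

theorem translateEquiv_apply {c : Fin n → A} (hc : ∀ i, c i ∈ I) (f : MvPowerSeries (Fin n) A) :
    translateEquiv hc f = translate hc f := rfl

theorem translate_coe {c : Fin n → A} (hc : ∀ i, c i ∈ I) (p : MvPolynomial (Fin n) A) :
    translate hc (p : MvPowerSeries (Fin n) A) =
      MvPolynomial.aeval (fun i => X i + C (c i)) p := by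
  induction p using MvPolynomial.induction_on with
  | C a => rw [MvPolynomial.coe_C, translate_C, MvPolynomial.aeval_C]; rfl
  | add p q hp hq => rw [MvPolynomial.coe_add, map_add, map_add, hp, hq]
  | mul_X p i hp =>
    rw [MvPolynomial.coe_mul, map_mul, map_mul, hp, MvPolynomial.coe_X, translate_X,
      MvPolynomial.aeval_X]

omit [IsAdicComplete I A] in
theorem prod_mem_pow {J : Ideal A} {c : Fin n → A} (hc : ∀ i, c i ∈ J) (d e : Fin n →₀ ℕ) :
    coeff e (d.prod fun i m => ((X i : MvPowerSeries (Fin n) A) + C (c i)) ^ m) ∈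
      J ^ (d.degree - e.degree) := by
  classical
  let W : ℕ → MvPowerSeries (Fin n) A → Prop := fun a f => ∀ e, coeff e f ∈ J ^ (a - e.degree)
  have h1 : W 0 1 := fun e => by simp
  have hmul : ∀ {a b f g}, W a f → W b g → W (a + b) (f * g) := by
    intro a b f g hf hg e
    rw [coeff_mul]
    refine Ideal.sum_mem _ fun p hp => ?_
    have hsum : p.1.degree + p.2.degree = e.degree := by
      rw [← map_add, Finset.HasAntidiagonal.mem_antidiagonal.mp hp]
    have := Ideal.mul_mem_mul (hf p.1) (hg p.2)
    rw [← pow_add] at this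
    exact Ideal.pow_le_pow_right (by omega) this
  have hX : ∀ i, W 1 ((X i : MvPowerSeries (Fin n) A) + C (c i)) := by
    intro i e
    rcases Nat.eq_zero_or_pos e.degree with h | h
    · have he : e = 0 := (Finsupp.degree_eq_zero_iff e).mp h
      subst he
      rw [coeff_zero_eq_constantCoeff_apply, map_add, constantCoeff_X, zero_add, constantCoeff_C]
      simpa using hc i
    · rw [Nat.sub_eq_zero_of_le h, pow_zero, Ideal.one_eq_top]
      exact Submodule.mem_top
  suffices W d.degree (d.prod fun i m => ((X i : MvPowerSeries (Fin n) A) + C (c i)) ^ m) from this e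
  induction d using Finsupp.induction with
  | zero => simpa using h1
  | single_add i m d hid hm ih =>
    rw [Finsupp.prod_add_index' (fun _ => pow_zero _) (fun _ _ _ => pow_add _ _ _),
      Finsupp.prod_single_index (by simp), map_add, Finsupp.degree_single]
    refine hmul ?_ ih
    clear hm
    induction m with
    | zero => simpa using h1
    | succ m ihm => rw [pow_succ]; exact hmul ihm (hX i)

theorem coeff_translate_mem {c : Fin n → A} (hc : ∀ i, c i ∈ I) {t N : ℕ} (hct : ∀ i, c i ∈ I ^ t)
    {f : MvPowerSeries (Fin n) A} (hf : OrdGE N f) (e : Fin n →₀ ℕ) :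
    coeff e (translate hc f) ∈ I ^ (t * (N - e.degree)) := by
  classical
  rw [← Ideal.Quotient.eq_zero_iff_mem, ← coeff_map]
  show coeff e (redP (t * (N - e.degree)) (translate hc f)) = 0
  rw [redP_translate hc, coeff_subst (hasSubst_translate hc _)]
  refine finsum_eq_zero_of_forall_eq_zero fun d => ?_
  rcases Nat.lt_or_ge d.degree N with h | h
  · rw [coeff_map, hf d h, map_zero, zero_smul]
  · have key := prod_mem_pow hct d e
    rw [← pow_mul] at key
    have h0 := Ideal.Quotient.eq_zero_iff_mem.mpr
      (Ideal.pow_le_pow_right (Nat.mul_le_mul_left t (Nat.sub_le_sub_right h e.degree)) key)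
    rw [← coeff_map, map_finsuppProd] at h0
    simp only [map_pow, map_add, map_X, map_C] at h0
    rw [h0, smul_zero]

/-- `Q + ℓ + a`. -/
noncomputable def lowPoly (q : Fin n → Fin n → A) (ℓ : Fin n → A) (a : A) : MvPolynomial (Fin n) A :=
  VanCyc.quadPoly q + ∑ i, MvPolynomial.C (ℓ i) * MvPolynomial.X i + MvPolynomial.C a

omit [IsAdicComplete I A] in
theorem coeff_lowPoly (q : Fin n → Fin n → A) (ℓ : Fin n → A) (a : A) :
    constantCoeff (lowPoly q ℓ a : MvPowerSeries (Fin n) A) = a ∧
    (∀ r, coeff (Finsupp.single r 1) (lowPoly q ℓ a : MvPowerSeries (Fin n) A) = ℓ r) ∧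
    (∀ p r, p ≤ r → coeff (Finsupp.single p 1 + Finsupp.single r 1)
      (lowPoly q ℓ a : MvPowerSeries (Fin n) A) = q p r) := by
  classical
  have hL : ∀ e : Fin n →₀ ℕ, coeff e ((∑ i, MvPolynomial.C (ℓ i) * MvPolynomial.X i :
      MvPolynomial (Fin n) A) : MvPowerSeries (Fin n) A) =
      ∑ i, if Finsupp.single i 1 = e then ℓ i else 0 := fun e => by
    rw [MvPolynomial.coeff_coe, MvPolynomial.coeff_sum]
    refine Finset.sum_congr rfl fun i _ => ?_
    rw [MvPolynomial.C_mul_X_eq_monomial, MvPolynomial.coeff_monomial]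
  simp only [lowPoly, MvPolynomial.coe_add, MvPolynomial.coe_C]
  refine ⟨?_, fun r => ?_, fun p r hpr => ?_⟩
  · rw [← coeff_zero_eq_constantCoeff_apply, map_add, map_add, hL,
      coeff_coe_quadPoly_of_degree_ne _ (by simp)]
    simp
  · rw [map_add, map_add, hL, coeff_coe_quadPoly_of_degree_ne _ (by simp [Finsupp.degree_single]),
      coeff_C, if_neg (by simp)]
    simp [Finsupp.single_left_inj (one_ne_zero : (1 : ℕ) ≠ 0)]
  · rw [map_add, map_add, hL, coeff_coe_quadPoly _ hpr, coeff_C, if_neg]
    · rw [Finset.sum_eq_zero fun i _ => if_neg fun h => ?_, add_zero, add_zero]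
      have := congrArg Finsupp.degree h
      simp [Finsupp.degree_single] at this
    · intro h
      have := congrArg Finsupp.degree h
      simp [Finsupp.degree_single] at this

omit [IsAdicComplete I A] in
theorem ordGE_three_sub {G : MvPowerSeries (Fin n) A} {q : Fin n → Fin n → A} {ℓ : Fin n → A} {a : A}
    (h0 : constantCoeff G = a) (h1 : ∀ r, coeff (Finsupp.single r 1) G = ℓ r)
    (h2 : ∀ p r, p ≤ r → coeff (Finsupp.single p 1 + Finsupp.single r 1) G = q p r) :
    OrdGE 3 (G - (lowPoly q ℓ a : MvPowerSeries (Fin n) A)) := by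
  obtain ⟨l0, l1, l2⟩ := coeff_lowPoly q ℓ a
  intro e he
  rw [map_sub, sub_eq_zero]
  rcases Nat.lt_or_ge e.degree 1 with h | h
  · have : e = 0 := (Finsupp.degree_eq_zero_iff e).mp (by omega)
    subst this
    rw [coeff_zero_eq_constantCoeff_apply, coeff_zero_eq_constantCoeff_apply, h0, l0]
  rcases Nat.lt_or_ge e.degree 2 with h' | h'
  · obtain ⟨r, rfl⟩ := eq_single_of_degree_eq_one (e := e) (by omega)
    rw [h1, l1]
  · obtain ⟨p, r, hpr, rfl⟩ := eq_add_of_degree_eq_two (e := e) (by omega)
    rw [h2 p r hpr, l2 p r hpr]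

theorem translate_lowPoly {c : Fin n → A} (hc : ∀ i, c i ∈ I) (q : Fin n → Fin n → A)
    (ℓ : Fin n → A) (a : A) :
    translate hc (lowPoly q ℓ a : MvPowerSeries (Fin n) A) =
      (lowPoly q (ℓ + vecMul c (VanCyc.polarMatrix q)) (a + VanCyc.quadEval q c + ∑ i, ℓ i * c i) :
        MvPowerSeries (Fin n) A) := by
  let S := MvPowerSeries (Fin n) A
  let qS : Fin n → Fin n → S := fun i j => algebraMap A S (q i j)
  have hX : (fun i : Fin n => (X i : S) + C (c i)) =
      (X : Fin n → S) + fun i => algebraMap A S (c i) := rfl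
  have h2 : VanCyc.quadEval qS (X : Fin n → S) = (VanCyc.quadPoly q : S) := by
    rw [VanCyc.quadEval, ← aeval_quadPoly, ← subst_coe (R := A), subst_self, id_eq]
  have h3 : VanCyc.quadEval qS (fun i => algebraMap A S (c i)) = algebraMap A S (VanCyc.quadEval q c) := by
    simp only [VanCyc.quadEval, qS, map_sum]
    refine Finset.sum_congr rfl fun i _ => Finset.sum_congr rfl fun j _ => ?_
    split_ifs <;> simp
  have h4 : vecMul (fun i => algebraMap A S (c i)) (VanCyc.polarMatrix qS) =
      fun i => algebraMap A S (vecMul c (VanCyc.polarMatrix q) i) := by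
    funext i
    rw [polarMatrix_map]
    simp [vecMul, dotProduct, map_sum]
  have h5 : MvPolynomial.aeval ((X : Fin n → S) + fun i => algebraMap A S (c i)) (VanCyc.quadPoly q) =
      VanCyc.quadEval qS ((X : Fin n → S) + fun i => algebraMap A S (c i)) := aeval_quadPoly q _
  have hmap : ∀ (p : MvPolynomial (Fin n) A) , MvPolynomial.aeval (X : Fin n → S) p = (p : S) := fun p => by
    rw [← subst_coe (R := A), subst_self, id_eq]
  rw [translate_coe, hX, lowPoly, lowPoly, ← hmap (_ + _ + _)]
  simp only [map_add, map_sum, map_mul, MvPolynomial.aeval_C, MvPolynomial.aeval_X]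
  rw [h5, quadEval_add, h2, h3, h4, hmap]
  simp only [Pi.add_apply, map_add, map_sum, add_mul, mul_add, Finset.sum_add_distrib, map_mul]
  have h6 : ∑ i, (X i : S) * algebraMap A S (vecMul c (VanCyc.polarMatrix q) i) =
      ∑ i, algebraMap A S (vecMul c (VanCyc.polarMatrix q) i) * (X i : S) :=
    Finset.sum_congr rfl fun i _ => mul_comm _ _
  rw [h6]
  ring

end GrothLib.Morse
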